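/-
Coset enumeration certificate: the assembled result.
-/
import Cfsg.Agent.Lib.Spor.TC.Steps
import Cfsg.Agent.Lib.Spor.Held.Rels
import Cfsg.Agent.Lib.Spor.Held.CD.Part0

namespace CfsgLib.Spor.Held.CD

open CfsgLib.Spor.TC

theorem steps_ok : cert.StepsOK 0 336 :=
  steps0

theorem rows_ok : cert.RowsOK 336 168 0 168 :=
  rows0

theorem row_zero : cert.rowNode 0 = 0 := by decide +kernel

/-- The certificate, for the relators as powers of words. -/
noncomputable def cosetCert : CosetCert 4 relsD [] 168 :=
  ⟨cert, 336, steps_ok, rows_ok, row_zero, by decide, rfl, by decide +kernel, by decide +kernel⟩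

end CfsgLib.Spor.Held.CD
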